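import Groth.Agent.CurveVA.Criterion
import Groth.Agent.CurveVA.BaseChange
import Groth.Agent.CurveEmbed.Immersion
import Groth.Agent.CurveEmbed.Conic
import Groth.Agent.EtFound.Descent
import Mathlib.AlgebraicGeometry.Geometrically.Integral

/-! Invertible modules of degree at least `2g + 1` are very ample. -/

noncomputable section

set_option linter.style.haveILetI false
set_option linter.unusedSectionVars false
set_option backward.isDefEq.respectTransparency false
set_option backward.isDefEq.respectTransparency.types false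

universe u

open CategoryTheory CategoryTheory.Limits AlgebraicGeometry TopologicalSpace Opposite

namespace Groth.Agent.CurveVA

open Groth.Agent Groth.Agent.InvX Groth.Agent.H23

/-- Modules with Euler characteristic above the genus are generated by their sections. -/
theorem exists_not_mem_maximal (k : Type u) [Field k] [IsAlgClosed k] {X : Scheme.{u}}
    [X.Over (Spec (CommRingCat.of k))] [IsProper (X ↘ Spec (CommRingCat.of k))] [IsIntegral X]
    (hdim : topologicalKrullDim X = 1) {L : X.Modules} (hL : PicF.IsInvertible L)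
    (hχ : (Curv2.genus k X : ℤ) + 1 ≤ Curv2.euler k X L)
    {U : X.Opens} {e : Γ(L, U)} (he : IsFrame e) {a : X} (ha : a ∈ U) (hac : IsClosed ({a} : Set X)) :
    ∃ z : Γ(L, ⊤), coord he ha (L.presheaf.germ ⊤ a trivial z) ∉ IsLocalRing.maximalIdeal (X.presheaf.stalk a) := by
  haveI := CurveCohLib.isNoetherian_of_proper (k := k) (X := X)
  obtain ⟨t, ht⟩ := exists_section k (valFun k he ha hac) hdim hL (𝟙 L) (CurveDeg.isCoh_of_isInvertible hL) hχ hac
    (m := L.presheaf.germ U a ha e) (by rw [valFun_germ]; exact one_ne_zero) (isResLinear_valFun k he ha hac)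
  exact ⟨t, fun h => ht ((valFun_eq_zero k he ha hac _).2 h)⟩

variable (k : Type u) [Field k] (X : Scheme.{u}) [X.Over (Spec (CommRingCat.of k))]
  [IsProper (X ↘ Spec (CommRingCat.of k))] [GeometricallyIntegral (X ↘ Spec (CommRingCat.of k))]

local notation "K" => AlgebraicClosure k

omit [GeometricallyIntegral (X ↘ Spec (CommRingCat.of k))] in
/-- Separation after extension to the algebraic closure gives an embedding by the complete linear system. -/
theorem exists_embedding_of_bar'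
    (h0 : Module.finrank k (Coh.HH X (Coh.structureModule X) 0) = 1) {L : X.Modules} (hL : PicF.IsInvertible L)
    {X' : Scheme.{u}} [X'.Over (Spec (CommRingCat.of K))] [IsIntegral X'] (π : X' ⟶ X)
    (hpb : IsPullback π (X' ↘ Spec (CommRingCat.of K)) (X ↘ Spec (CommRingCat.of k))
      (Spec.map (CommRingCat.ofHom (algebraMap k K))))
    [IsProper (X' ↘ Spec (CommRingCat.of K))]
    (hgg : ∀ {U : X'.Opens} {e : Γ(((Scheme.Modules.pullback π).obj L), U)} (he : IsFrame e) {a : X'} (ha : a ∈ U), IsClosed ({a} : Set X') →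
      ∃ z : Γ(((Scheme.Modules.pullback π).obj L), ⊤), coord he ha ((((Scheme.Modules.pullback π).obj L)).presheaf.germ ⊤ a trivial z) ∉ IsLocalRing.maximalIdeal (X'.presheaf.stalk a))
    (hsep : ∀ {U : X'.Opens} {e : Γ(((Scheme.Modules.pullback π).obj L), U)} (he : IsFrame e) {a b : X'} (ha : a ∈ U) (hb : b ∈ U),
      IsClosed ({a} : Set X') → IsClosed ({b} : Set X') → b ≠ a →
      ∃ z : Γ(((Scheme.Modules.pullback π).obj L), ⊤), coord he ha ((((Scheme.Modules.pullback π).obj L)).presheaf.germ ⊤ a trivial z) ∈ IsLocalRing.maximalIdeal (X'.presheaf.stalk a) ∧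
        coord he hb ((((Scheme.Modules.pullback π).obj L)).presheaf.germ ⊤ b trivial z) ∉ IsLocalRing.maximalIdeal (X'.presheaf.stalk b))
    (htan : ∀ {U : X'.Opens} {e : Γ(((Scheme.Modules.pullback π).obj L), U)} (he : IsFrame e) {a : X'} (ha : a ∈ U), IsClosed ({a} : Set X') →
      ∀ N : Ideal (X'.presheaf.stalk a), IsLocalRing.maximalIdeal (X'.presheaf.stalk a) ^ 2 ≤ N →
      ¬ IsLocalRing.maximalIdeal (X'.presheaf.stalk a) ≤ N →
      ∃ z : Γ(((Scheme.Modules.pullback π).obj L), ⊤), coord he ha ((((Scheme.Modules.pullback π).obj L)).presheaf.germ ⊤ a trivial z) ∈ IsLocalRing.maximalIdeal (X'.presheaf.stalk a) ∧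
        coord he ha ((((Scheme.Modules.pullback π).obj L)).presheaf.germ ⊤ a trivial z) ∉ N) :
    ∃ (n : ℕ) (i : X ⟶ CohB1.ProjSpace n k), IsClosedImmersion i ∧
      i ≫ CohB1.ProjSpace.toSpec n k = X ↘ Spec (CommRingCat.of k) ∧
      Nonempty ((Scheme.Modules.pullback i).obj (Twist.twistProjSpace n k 1) ≅ L) ∧
      Module.finrank k (Coh.HH X L 0) = n + 1 := by
  classical
  let f := X ↘ Spec (CommRingCat.of k)
  let φ := Spec.map (CommRingCat.ofHom (algebraMap k K))
  obtain ⟨_, _⟩ := CurveBC.flat_surjective k K π hpb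
  haveI := quasiSeparatedSpace_of_quasiSeparated f
  haveI := QuasiCompact.compactSpace_of_compactSpace f
  haveI := CurveCohLib.isNoetherian_of_proper (k := k) (X := X)
  haveI := CurveCohLib.isNoetherian_of_proper (k := K) (X := X')
  haveI : JacobsonSpace X' := LocallyOfFiniteType.jacobsonSpace (X' ↘ Spec (CommRingCat.of K))
  let P := Scheme.Modules.pullback π
  have hL' : PicF.IsInvertible (P.obj L) := PicClLib.isInvertible_pullback π hL
  have hLc := CurveDeg.isCoh_of_isInvertible hL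
  have hLc' := CurveDeg.isCoh_of_isInvertible hL'
  haveI := CurveCohLib.finite_HH (k := k) hLc 0
  have hfin' := CurveCohLib.finite_HH (k := K) hLc' 0
  let e₀ := Sheaf.H.equiv₀ (Coh.toAb L) isTerminalTop
  obtain ⟨n, hn⟩ : ∃ n, Module.finrank k (Coh.HH X L 0) = n + 1 := by
    obtain ⟨x, -, hxc⟩ := nonempty_inter_closedPoints (X := X') (Z := Set.univ) ⟨Classical.arbitrary X', trivial⟩
      isClosed_univ.isLocallyClosed
    obtain ⟨U, hxU, e, he⟩ := exists_frame hL' x
    obtain ⟨z, hz⟩ := hgg he hxU hxc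
    rw [← CurveBC.finrank_hh k K π hpb L hLc.1 0]
    let e₁ := Sheaf.H.equiv₀ (Coh.toAb (P.obj L)) isTerminalTop
    have hz0 : e₁.symm z ≠ 0 := fun h => hz (by
      have h0 : z = 0 := ((e₁.apply_symm_apply z).symm.trans (congrArg e₁ h)).trans (map_zero e₁)
      rw [h0, map_zero, map_zero]
      exact Submodule.zero_mem _)
    haveI : Nontrivial (Coh.HH X' (P.obj L) 0) := ⟨⟨_, _, hz0⟩⟩
    haveI := hfin'
    exact ⟨Module.finrank K (Coh.HH X' (P.obj L) 0) - 1, (Nat.succ_pred_eq_of_pos Module.finrank_pos).symm⟩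
  let b := Module.finBasisOfFinrankEq k (Coh.HH X L 0) hn
  let σ : Fin (n + 1) → Γ(L, ⊤) := fun i => (e₀ (b i) : Γ(L, ⊤))
  let sc : K → Γ(X', ⊤) := fun c => Coh.resTop X' (op ⊤) (Coh.toGlobal (X' ↘ Spec (CommRingCat.of K)) c)
  have hcomb : ∀ z : Γ(P.obj L, ⊤), ∃ c : Fin (n + 1) → K, z = ∑ i, sc (c i) • pullTop π L (σ i) :=
    exists_comb k h0 K π hpb hLc hfin' b
  have hloc : ∀ i, TrivBasic.locus (pullTop π L (σ i)) = π ⁻¹ᵁ TrivBasic.locus (σ i) :=
    fun i => TrivBasic.locus_pullElt hL π (σ i)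
  have hcov : ∀ x : X, ∃ i, x ∈ TrivBasic.locus (σ i) := by
    by_contra! hne
    obtain ⟨x, hx⟩ := hne
    obtain ⟨y, rfl⟩ := π.surjective x
    obtain ⟨a, hay, hac⟩ := nonempty_inter_closedPoints (Z := ((⨆ i, TrivBasic.locus (pullTop π L (σ i)) : X'.Opens) : Set X')ᶜ)
      ⟨y, fun h => by
        obtain ⟨i, hi⟩ := Opens.mem_iSup.1 h
        rw [hloc i] at hi
        exact hx i hi⟩ (⨆ i, TrivBasic.locus (pullTop π L (σ i)) : X'.Opens).2.isClosed_compl.isLocallyClosed
    obtain ⟨U, haU, e, he⟩ := exists_frame hL' a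
    obtain ⟨z, hz⟩ := hgg he haU hac
    obtain ⟨c, rfl⟩ := hcomb z
    apply hz
    rw [map_sum, map_sum]
    refine Ideal.sum_mem _ fun i _ => ?_
    rw [QCoh.germ_smul' (P.obj L) (U := ⊤) (hx := (trivial : a ∈ (⊤ : X'.Opens))), coord_smul]
    refine Ideal.mul_mem_left _ _ ((IsLocalRing.mem_maximalIdeal _).2 fun hu => hay ?_)
    refine Opens.mem_iSup.2 ⟨i, ?_⟩
    obtain ⟨γ, hγ⟩ := he.exists_coord le_rfl (AModX.res (P.obj L) (le_top : U ≤ ⊤) (pullTop π L (σ i)))
    rw [AModX.res_self] at hγ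
    have h1 := TrivBasic.locus_eq_basicOpen he hγ
    have h2 : a ∈ TrivBasic.locus (pullTop π L (σ i)) ⊓ U := by
      rw [h1, X'.mem_basicOpen _ a haU]
      rw [← InvX.germ_res' (le_top : U ≤ ⊤) haU (pullTop π L (σ i)), hγ, QCoh.germ_smul', coord_smul_germ] at hu
      exact hu
    exact h2.1
  obtain ⟨r, hr, τ, hτ⟩ := S3572.result n f L hL σ (AVAmple.generatedBy_of_locus σ hcov)
  refine ⟨n, r, ?_, hr, ⟨τ⟩, hn⟩
  let q₀ := CohB1.ProjSpace.toSpec n k
  haveI : IsProper q₀ := PnCoh.Chow.isProper_toSpec n k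
  let Y := pullback q₀ φ
  let g : X' ⟶ Y := pullback.lift (π ≫ r) (X' ↘ Spec (CommRingCat.of K)) (by rw [Category.assoc, hr]; exact hpb.w)
  have hg1 : g ≫ pullback.fst q₀ φ = π ≫ r := pullback.lift_fst _ _ _
  have hg2 : g ≫ pullback.snd q₀ φ = X' ↘ Spec (CommRingCat.of K) := pullback.lift_snd _ _ _
  haveI : IsClosedImmersion g := by
    refine isClosedImmersion_of_separation K hsep htan (pullback.snd q₀ φ) g hg2 fun y => ?_
    obtain ⟨j, hj⟩ := Opens.mem_iSup.1
      ((AmpleEmbed.iSup_basicOpen_X n k).ge (trivial : pullback.fst q₀ φ y ∈ (⊤ : Opens _)))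
    let D : (CohB1.ProjSpace n k).Opens := Proj.basicOpen (CohB1.polyGrading n k) (MvPolynomial.X j)
    let U : X.Opens := TrivBasic.locus (σ j)
    have hpre : r ⁻¹ᵁ D = U := AmpleEmbed.preimage_chart r τ j (hτ j)
    let V : Y.Opens := pullback.fst q₀ φ ⁻¹ᵁ D
    have hVU : g ⁻¹ᵁ V = π ⁻¹ᵁ U := by
      show g ⁻¹ᵁ pullback.fst q₀ φ ⁻¹ᵁ D = _
      rw [← Scheme.Hom.comp_preimage, hg1, Scheme.Hom.comp_preimage, hpre]
    let e : Γ(P.obj L, g ⁻¹ᵁ V) := AModX.res (P.obj L) (le_top : g ⁻¹ᵁ V ≤ ⊤) (pullTop π L (σ j))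
    have he : IsFrame e := TrivBasic.isFrame_res_of_le_locus (by rw [hVU, hloc j])
    refine ⟨V, hj, e, he, fun z => ?_⟩
    let S : Subring Γ(X', g ⁻¹ᵁ V) := (g.app V).hom.range
    have hconst : ∀ c : K, AModX.resR (le_top : g ⁻¹ᵁ V ≤ ⊤) (sc c) ∈ S := fun c => by
      refine ⟨(pullback.snd q₀ φ).appLE ⊤ V le_top ((Scheme.ΓSpecIso (CommRingCat.of K)).inv c), ?_⟩
      rw [← Scheme.Hom.appLE_eq_app, ← CommRingCat.comp_apply, Scheme.Hom.appLE_comp_appLE]
      simp only [hg2]
      show (X' ↘ Spec (CommRingCat.of K)).appLE ⊤ (g ⁻¹ᵁ V) _ ((Scheme.ΓSpecIso (CommRingCat.of K)).inv c) =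
        X'.presheaf.map _ (X'.presheaf.map (𝟙 (op ⊤)) ((X' ↘ Spec (CommRingCat.of K)).appTop _))
      rw [CategoryTheory.Functor.map_id]
      rfl
    have hs : ∀ i, ∃ β ∈ S, AModX.res (P.obj L) (le_top : g ⁻¹ᵁ V ≤ ⊤) (pullTop π L (σ i)) = β • e := fun i => by
      have hfr : IsFrame (AModX.res L (le_top : U ≤ ⊤) (σ j)) := TrivBasic.isFrame_res_of_le_locus le_rfl
      obtain ⟨β, hβ⟩ := hfr.exists_coord le_rfl (AModX.res L (le_top : U ≤ ⊤) (σ i))
      rw [AModX.res_self] at hβ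
      obtain ⟨t, ht⟩ : ∃ t : Γ(CohB1.ProjSpace n k, D), r.appLE D U hpre.ge t = β :=
        ⟨_, AmpleEmbed.ratioOf_eq r τ j i (hτ j) (hτ i) hpre.ge β hβ⟩
      refine ⟨(π.appLE U (g ⁻¹ᵁ V) hVU.le) β, ⟨(pullback.fst q₀ φ).appLE D V le_rfl t, ?_⟩, ?_⟩
      · rw [← ht, ← Scheme.Hom.appLE_eq_app, ← CommRingCat.comp_apply, ← CommRingCat.comp_apply,
          Scheme.Hom.appLE_comp_appLE, Scheme.Hom.appLE_comp_appLE]
        simp only [hg1]
      · show AModX.res (P.obj L) _ (pullTop π L (σ i)) = _ • AModX.res (P.obj L) _ (pullTop π L (σ j))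
        have h1 : ∀ w, AModX.res (P.obj L) (le_top : g ⁻¹ᵁ V ≤ ⊤) (pullTop π L w) =
            AModX.res (P.obj L) hVU.le (InvX.pullElt π (AModX.res L (le_top : U ≤ ⊤) w)) := fun w => by
          rw [← InvX.res_pullElt π (le_top : U ≤ ⊤) w, AModX.res_res]
          rfl
        rw [h1, h1, hβ, InvX.pullElt_smul, AModX.res_smul]
        rfl
    obtain ⟨c, rfl⟩ := hcomb z
    suffices ∃ β ∈ S, AModX.res (P.obj L) (le_top : g ⁻¹ᵁ V ≤ ⊤) (∑ i, sc (c i) • pullTop π L (σ i)) = β • e by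
      obtain ⟨β, ⟨t, rfl⟩, hβ⟩ := this
      exact ⟨t, hβ⟩
    rw [map_sum]
    refine Finset.sum_induction _ (fun w => ∃ β ∈ S, w = β • e) ?_ ⟨0, S.zero_mem, (zero_smul _ _).symm⟩ fun i _ => ?_
    · rintro _ _ ⟨β, hβ, rfl⟩ ⟨γ, hγ, rfl⟩
      exact ⟨β + γ, S.add_mem hβ hγ, (add_smul _ _ _).symm⟩
    · obtain ⟨β, hβ, hiβ⟩ := hs i
      refine ⟨_, S.mul_mem (hconst (c i)) hβ, ?_⟩
      rw [AModX.res_smul, hiβ, mul_smul]
  have hsq : IsPullback π g r (pullback.fst q₀ φ) := by
    refine IsPullback.of_bot ?_ hg1.symm (IsPullback.of_hasPullback q₀ φ)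
    rw [hr, hg2]
    exact hpb
  haveI : MorphismProperty.DescendsAlong @IsClosedImmersion
      (@Surjective ⊓ @Flat ⊓ @QuasiCompact : MorphismProperty Scheme.{u}) := EtFound.fpqc_isClosedImmersion
  obtain ⟨hfl, hsu⟩ : Flat (pullback.fst q₀ φ) ∧ Surjective (pullback.fst q₀ φ) :=
    ⟨MorphismProperty.pullback_fst _ _ (GrpSchLib.flat_spec_map_field (algebraMap k K)),
      MorphismProperty.pullback_fst _ _ (GrpSchLib.surjective_spec_map_field (algebraMap k K))⟩
  have hQ : (@Surjective ⊓ @Flat ⊓ @QuasiCompact : MorphismProperty Scheme.{u}) (pullback.fst q₀ φ) :=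
    ⟨⟨hsu, hfl⟩, MorphismProperty.pullback_fst _ _ inferInstance⟩
  exact MorphismProperty.of_isPullback_of_descendsAlong hsq.flip hQ ‹IsClosedImmersion g›


omit [GeometricallyIntegral (X ↘ Spec (CommRingCat.of k))] in
/-- Separation after extension to the algebraic closure gives an embedding. -/
theorem exists_embedding_of_bar
    (h0 : Module.finrank k (Coh.HH X (Coh.structureModule X) 0) = 1) {L : X.Modules} (hL : PicF.IsInvertible L)
    {X' : Scheme.{u}} [X'.Over (Spec (CommRingCat.of K))] [IsIntegral X'] (π : X' ⟶ X)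
    (hpb : IsPullback π (X' ↘ Spec (CommRingCat.of K)) (X ↘ Spec (CommRingCat.of k))
      (Spec.map (CommRingCat.ofHom (algebraMap k K))))
    [IsProper (X' ↘ Spec (CommRingCat.of K))]
    (hgg : ∀ {U : X'.Opens} {e : Γ(((Scheme.Modules.pullback π).obj L), U)} (he : IsFrame e) {a : X'} (ha : a ∈ U), IsClosed ({a} : Set X') →
      ∃ z : Γ(((Scheme.Modules.pullback π).obj L), ⊤), coord he ha ((((Scheme.Modules.pullback π).obj L)).presheaf.germ ⊤ a trivial z) ∉ IsLocalRing.maximalIdeal (X'.presheaf.stalk a))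
    (hsep : ∀ {U : X'.Opens} {e : Γ(((Scheme.Modules.pullback π).obj L), U)} (he : IsFrame e) {a b : X'} (ha : a ∈ U) (hb : b ∈ U),
      IsClosed ({a} : Set X') → IsClosed ({b} : Set X') → b ≠ a →
      ∃ z : Γ(((Scheme.Modules.pullback π).obj L), ⊤), coord he ha ((((Scheme.Modules.pullback π).obj L)).presheaf.germ ⊤ a trivial z) ∈ IsLocalRing.maximalIdeal (X'.presheaf.stalk a) ∧
        coord he hb ((((Scheme.Modules.pullback π).obj L)).presheaf.germ ⊤ b trivial z) ∉ IsLocalRing.maximalIdeal (X'.presheaf.stalk b))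
    (htan : ∀ {U : X'.Opens} {e : Γ(((Scheme.Modules.pullback π).obj L), U)} (he : IsFrame e) {a : X'} (ha : a ∈ U), IsClosed ({a} : Set X') →
      ∀ N : Ideal (X'.presheaf.stalk a), IsLocalRing.maximalIdeal (X'.presheaf.stalk a) ^ 2 ≤ N →
      ¬ IsLocalRing.maximalIdeal (X'.presheaf.stalk a) ≤ N →
      ∃ z : Γ(((Scheme.Modules.pullback π).obj L), ⊤), coord he ha ((((Scheme.Modules.pullback π).obj L)).presheaf.germ ⊤ a trivial z) ∈ IsLocalRing.maximalIdeal (X'.presheaf.stalk a) ∧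
        coord he ha ((((Scheme.Modules.pullback π).obj L)).presheaf.germ ⊤ a trivial z) ∉ N) :
    ∃ (n : ℕ) (i : X ⟶ CohB1.ProjSpace n k), IsClosedImmersion i ∧
      i ≫ CohB1.ProjSpace.toSpec n k = X ↘ Spec (CommRingCat.of k) ∧
      Nonempty ((Scheme.Modules.pullback i).obj (Twist.twistProjSpace n k 1) ≅ L) :=
  let ⟨n, i, h1, h2, h3, _⟩ := exists_embedding_of_bar' k X h0 hL π hpb hgg hsep htan
  ⟨n, i, h1, h2, h3⟩

theorem exists_embedding (hdim : topologicalKrullDim X = 1)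
    (h0 : Module.finrank k (Coh.HH X (Coh.structureModule X) 0) = 1) {L : X.Modules} (hL : PicF.IsInvertible L)
    (hdeg : 2 * (Curv2.genus k X : ℤ) + 1 ≤ Curv2.deg k X L 1) :
    ∃ (n : ℕ) (i : X ⟶ CohB1.ProjSpace n k), IsClosedImmersion i ∧
      i ≫ CohB1.ProjSpace.toSpec n k = X ↘ Spec (CommRingCat.of k) ∧
      Nonempty ((Scheme.Modules.pullback i).obj (Twist.twistProjSpace n k 1) ≅ L) := by
  classical
  let f := X ↘ Spec (CommRingCat.of k)
  let φ := Spec.map (CommRingCat.ofHom (algebraMap k K))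
  let X' := pullback f φ
  let π : X' ⟶ X := pullback.fst f φ
  letI : X'.Over (Spec (CommRingCat.of K)) := ⟨pullback.snd f φ⟩
  have hpb : IsPullback π (X' ↘ Spec (CommRingCat.of K)) (X ↘ Spec (CommRingCat.of k))
      (Spec.map (CommRingCat.ofHom (algebraMap k K))) := IsPullback.of_hasPullback _ _
  haveI : IsProper (X' ↘ Spec (CommRingCat.of K)) := CurveBC.isProper k K π hpb
  obtain ⟨_, _⟩ := CurveBC.flat_surjective k K π hpb
  haveI : IsIntegral X' := GeometricallyIntegral.geometrically_isIntegral (f := f) _ _ _ hpb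
  haveI : Subsingleton (Spec (CommRingCat.of k)) := inferInstanceAs (Subsingleton (PrimeSpectrum k))
  haveI : IsIntegral X := GeometricallyIntegral.isIntegral_of_subsingleton f
  haveI := quasiSeparatedSpace_of_quasiSeparated f
  haveI := QuasiCompact.compactSpace_of_compactSpace f
  haveI := CurveCohLib.isNoetherian_of_proper (k := k) (X := X)
  haveI := CurveCohLib.isNoetherian_of_proper (k := K) (X := X')
  haveI : JacobsonSpace X' := LocallyOfFiniteType.jacobsonSpace (X' ↘ Spec (CommRingCat.of K))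
  have hdim' := CurveBC.topologicalKrullDim_eq k K π hpb hdim
  let P := Scheme.Modules.pullback π
  have hL' : PicF.IsInvertible (P.obj L) := PicClLib.isInvertible_pullback π hL
  have hLc := CurveDeg.isCoh_of_isInvertible hL
  have hLc' := CurveDeg.isCoh_of_isInvertible hL'
  haveI := CurveCohLib.finite_HH (k := k) hLc 0
  have hfin' := CurveCohLib.finite_HH (k := K) hLc' 0
  have hχ : (Curv2.genus K X' : ℤ) + 2 ≤ Curv2.euler K X' (P.obj L) := by
    rw [CurveBC.genus_eq k K π hpb, CurveBC.euler_eq k K π hpb L hLc.1]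
    have h2 := CurveRR.euler_eq_h0_sub_h1 k hdim.le (QCoh.isQCoh_structureModule (X := X))
    unfold Curv2.deg at hdeg
    unfold Curv2.genus at hdeg ⊢
    push_cast at hdeg
    omega
  exact exists_embedding_of_bar k X h0 hL π hpb
    (fun he _ ha hac => exists_not_mem_maximal K hdim' hL' (by omega) he ha hac)
    (fun he _ _ ha hb hac hbc hne => exists_separate K hdim' hL' hχ he ha hac hb hbc hne)
    (fun he _ ha hac N h1 h2 => exists_tangent K hdim' hL' hχ he ha hac N h1 h2)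

end Groth.Agent.CurveVA
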